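import Cfsg.Agent.H345.RG.Fpr
import Cfsg.Agent.H873.RG.Defs
import Cfsg.Agent.Involutions.BaerSuzuki

/-!
# Regular cycles (S3509): counting with outer automorphisms (helper973)

`S` simple with `α * α` inner for every automorphism `α` (`SqInner`), so odd order elements of `G` are in `N`.

* `FBA S p b` : fixed point ratios of all elements of order `p` of all `G` between `S` and `Aut S` are at most `b`;
* `FBA.odd` : `b = c / m`, `c` a bound for the centralisers in `S` of elements of odd prime order `p`, `m` minimal index;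
* `FBA.two` : an involution (inner or not) inverts an element of odd prime order: `b = b' + 1/3`;
* **`noCov_of_FBA`**, **`noCov_of_count`** : `3 (∑ c p + K) < 2 m` (sum over the odd primes, `K` their maximum)
  implies `NoCov S`.
-/

set_option autoImplicit false
open Cfsg

namespace Cfsg.Agent.H973.RG

open MulAction Subgroup Cfsg.Agent.H106.RC Cfsg.Agent.H345.RG

/-- squares of automorphisms are inner -/
def SqInner (S : Type) [Group S] : Prop := ∀ α : MulAut S, ∃ s, α * α = MulAut.conj s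

theorem SqInner.of_inner {S : Type} [Group S] (h : ∀ α : MulAut S, ∃ s, α = MulAut.conj s) : SqInner S := by
  intro α
  obtain ⟨s, hs⟩ := h α
  exact ⟨s * s, by rw [map_mul, ← hs]⟩

/-- bound for the fixed point ratios of the elements of order `p` of all groups between `S` and `Aut S` -/
def FBA (S : Type) [Group S] (p : ℕ) (b : ℚ) : Prop :=
  ∀ (G : Type) [Group G] [Finite G] (Ω : Type) [Finite Ω] [Nonempty Ω] [MulAction G Ω]
    (N : Subgroup G), Env G Ω N → (N ≃* S) → ∀ x : G, x ^ p = 1 → x ≠ 1 → fpr Ω x ≤ b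

theorem FBA.mono {S : Type} [Group S] {p : ℕ} {b b' : ℚ} (h : FBA S p b) (hb : b ≤ b') : FBA S p b' :=
  fun G _ _ Ω _ _ _ N hE e x hx hx1 => (h G Ω N hE e x hx hx1).trans hb

section mem

variable {S G Ω : Type} [Group S] [Group G] [MulAction G Ω] {N : Subgroup G}

/-- an element acting on `N` as an element of `N` is in `N` -/
theorem mem_of_conj (hE : Env G Ω N) {g n : G} (hn : n ∈ N) (h : ∀ t ∈ N, g * t * g⁻¹ = n * t * n⁻¹) : g ∈ N := by
  have h2 : n⁻¹ * g ∈ centralizer (N : Set G) := by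
    rw [mem_centralizer_iff]
    intro t ht
    calc t * (n⁻¹ * g) = n⁻¹ * (n * t * n⁻¹) * g := by group
      _ = n⁻¹ * (g * t * g⁻¹) * g := by rw [h t ht]
      _ = n⁻¹ * g * t := by group
  rw [hE.cent, mem_bot, inv_mul_eq_one] at h2
  rw [← h2]
  exact hn

theorem sq_mem (hE : Env G Ω N) (e : N ≃* S) (hsq : SqInner S) (g : G) : g * g ∈ N := by
  have hNn := hE.norm
  obtain ⟨s, hs⟩ := hsq ((MulAut.congr e) (MulAut.conjNormal g))
  refine mem_of_conj hE (e.symm s).2 fun t ht => ?_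
  rw [← map_mul, ← map_mul] at hs
  have h1 : MulAut.conjNormal (g * g) = MulAut.conj (e.symm s) := by
    apply (MulAut.congr e).injective
    rw [hs]
    ext t
    simp [MulAut.congr]
  have := congrArg (fun β : MulAut N => ((β ⟨t, ht⟩ : N) : G)) h1
  simpa [MulAut.conjNormal_apply, mul_assoc] using this

theorem odd_mem [Finite G] (hE : Env G Ω N) (e : N ≃* S) (hsq : SqInner S) {g : G} (hg : Odd (orderOf g)) : g ∈ N := by
  obtain ⟨k, hk⟩ := hg
  have h1 : g = (g * g) ^ (k + 1) := by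
    rw [← pow_two, ← pow_mul, show 2 * (k + 1) = orderOf g + 1 by omega, pow_succ, pow_orderOf_eq_one, one_mul]
  rw [h1]
  exact pow_mem (sq_mem hE e hsq g) _

theorem prime_mem [Finite G] (hE : Env G Ω N) (e : N ≃* S) (hsq : SqInner S) {g : G} {p : ℕ} (hp : p.Prime)
    (hp2 : p ≠ 2) (hg : g ^ p = 1) : g ∈ N := by
  refine odd_mem hE e hsq (Odd.of_dvd_nat (hp.odd_of_ne_two hp2) (orderOf_dvd_of_pow_eq_one hg))

/-- centralisers in `N` of elements of `N` -/
theorem card_cent_le [Finite G] (e : N ≃* S) {x : G} (hx : x ∈ N) :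
    Nat.card ↥(N ⊓ centralizer ({x} : Set G)) ≤ Nat.card (centralizer ({e ⟨x, hx⟩} : Set S)) := by
  have hfN : Finite N := inferInstance
  have hfS : Finite S := Finite.of_equiv N e.toEquiv
  refine Nat.card_le_card_of_injective (fun c : ↥(N ⊓ centralizer ({x} : Set G)) =>
    (⟨e ⟨c.1, (mem_inf.1 c.2).1⟩, ?_⟩ : centralizer ({e ⟨x, hx⟩} : Set S))) ?_
  · rw [mem_centralizer_singleton_iff, ← map_mul, ← map_mul]
    congr 1
    exact Subtype.ext (mem_centralizer_singleton_iff.1 (mem_inf.1 c.2).2)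
  · intro a b hab
    have h0 : e ⟨a.1, (mem_inf.1 a.2).1⟩ = e ⟨b.1, (mem_inf.1 b.2).1⟩ := congrArg Subtype.val hab
    exact Subtype.ext (congrArg (fun t : N => (t : G)) (e.injective h0))

/-- the orbits of `N` are large -/
theorem big_of_minIx [Finite G] (hE : Env G Ω N) (e : N ≃* S) {m : ℕ} (hI : MinIx S m) : Big Ω N m := by
  intro ω
  refine Cfsg.Agent.H867.RC.le_orbit hE (fun H hH => ?_) ω
  have h1 : H.map e.toMonoidHom ≠ ⊤ := by
    intro h
    apply hH
    rw [eq_top_iff]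
    intro t _
    have : e t ∈ H.map e.toMonoidHom := by rw [h]; trivial
    obtain ⟨u, hu, hut⟩ := this
    rwa [← e.injective hut]
  have h2 : m ≤ (H.map (e : N →* S)).index := hI _ h1
  rwa [Subgroup.index_map_equiv H e] at h2

end mem

section bounds

variable {S : Type} [Group S] [Finite S]

omit [Finite S] in
/-- elements of odd prime order -/
theorem FBA.odd (hsq : SqInner S) {m : ℕ} (hm : 0 < m) (hI : MinIx S m) {p c : ℕ} (hp : p.Prime) (hp2 : p ≠ 2)
    (hc : ∀ x : S, x ^ p = 1 → x ≠ 1 → Nat.card (centralizer ({x} : Set S)) ≤ c) : FBA S p (c / m) := by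
  intro G _ _ Ω _ _ _ N hE e x hx hx1
  have hxN := prime_mem hE e hsq hp hp2 hx
  refine (F1 hm (big_of_minIx hE e hI) hE.norm x).trans ?_
  have h1 := (card_cent_le e hxN).trans (hc (e ⟨x, hxN⟩) (by
    rw [← map_pow, show (⟨x, hxN⟩ : N) ^ p = 1 from Subtype.ext hx, map_one]) (fun h => hx1 (by
      have h2 : (⟨x, hxN⟩ : N) = 1 := e.injective (by rw [h, map_one])
      exact congrArg Subtype.val h2)))
  have hm' : (0 : ℚ) < m := by exact_mod_cast hm
  exact div_le_div_of_nonneg_right (by exact_mod_cast h1) hm'.le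

omit [Finite S] in
/-- the normal closure of an involution of `G` is not a `2`-group -/
theorem not_pGroup_nc {G Ω : Type} [Group G] [Finite G] [MulAction G Ω] {N : Subgroup G} (hE : Env G Ω N) {z : G}
    (hz1 : z ≠ 1) : ¬ IsPGroup 2 (normalClosure ({z} : Set G)) := by
  intro hP
  have hNn := hE.norm
  have hfact : Fact (Nat.Prime 2) := ⟨Nat.prime_two⟩
  set K := normalClosure ({z} : Set G) with hK
  have hzK : z ∈ K := subset_normalClosure rfl
  have hcomm : ∀ n ∈ N, ∀ k ∈ K, n * k * n⁻¹ * k⁻¹ ∈ K ⊓ N := by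
    intro n hn k hk
    refine mem_inf.2 ⟨?_, ?_⟩
    · exact mul_mem ((inferInstance : K.Normal).conj_mem k hk n) (inv_mem hk)
    · have e : n * k * n⁻¹ * k⁻¹ = n * (k * n⁻¹ * k⁻¹) := by group
      rw [e]
      exact mul_mem hn (hNn.conj_mem _ (inv_mem hn) k)
  rcases hE.simple.eq_bot_or_eq_top_of_normal (K.subgroupOf N) normal_subgroupOf with h | h
  · apply hz1
    have h1 : z ∈ centralizer (N : Set G) := by
      rw [mem_centralizer_iff]
      intro n hn
      have h2 := hcomm n hn z hzK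
      have h3 : (⟨n * z * n⁻¹ * z⁻¹, (mem_inf.1 h2).2⟩ : N) ∈ K.subgroupOf N := (mem_inf.1 h2).1
      rw [h, mem_bot] at h3
      have h4 : n * z * n⁻¹ * z⁻¹ = 1 := congrArg Subtype.val h3
      calc n * z = (n * z * n⁻¹ * z⁻¹) * (z * n) := by group
        _ = z * n := by rw [h4, one_mul]
    rw [hE.cent] at h1
    exact mem_bot.1 h1
  · -- `N` is a `2`-group
    have hNK : N ≤ K := by
      intro n hn
      have : (⟨n, hn⟩ : N) ∈ K.subgroupOf N := by rw [h]; trivial
      exact this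
    have hNp : IsPGroup 2 N := hP.to_le hNK
    have hnt : Nontrivial N := hE.simple.toNontrivial
    have hc : Subgroup.center N ≠ ⊥ := by
      have := hNp.center_nontrivial
      intro hb
      rw [hb] at this
      exact absurd this (not_nontrivial _)
    rcases hE.simple.eq_bot_or_eq_top_of_normal (Subgroup.center N) inferInstance with h | h
    · exact hc h
    · refine hE.ncomm ⟨⟨fun a b => ?_⟩⟩
      have : b ∈ Subgroup.center N := by rw [h]; trivial
      exact mem_center_iff.1 this a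

omit [Finite S] in
/-- **involutions** (inner or not): an involution inverts an element `y ∈ N` of odd prime order `r` -/
theorem exists_inverted (hsq : SqInner S) {G Ω : Type} [Group G] [Finite G] [MulAction G Ω] {N : Subgroup G}
    (hE : Env G Ω N) (e : N ≃* S) {z : G} (hz : z ^ 2 = 1) (hz1 : z ≠ 1) :
    ∃ (r : ℕ) (y : G), r.Prime ∧ r ≠ 2 ∧ y ∈ N ∧ y ^ r = 1 ∧ y ≠ 1 ∧ z * y * z⁻¹ = y⁻¹ := by
  obtain ⟨h, h1, h2, h3⟩ := Involutions.BaerSuzuki.exists_odd_inverted z (by rw [← pow_two]; exact hz)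
    (not_pGroup_nc hE hz1)
  have hne : orderOf h ≠ 1 := fun h' => h1 (orderOf_eq_one_iff.1 h')
  obtain ⟨r, hr, hrd⟩ := Nat.exists_prime_and_dvd hne
  have hr2 : r ≠ 2 := by
    rintro rfl
    exact (Nat.not_even_iff_odd.2 h2) (even_iff_two_dvd.2 hrd)
  have hpos : 0 < orderOf h := orderOf_pos h
  set y := h ^ (orderOf h / r) with hy
  have hyr : y ^ r = 1 := by rw [hy, ← pow_mul, Nat.div_mul_cancel hrd, pow_orderOf_eq_one]
  refine ⟨r, y, hr, hr2, prime_mem hE e hsq hr hr2 hyr, hyr, ?_, ?_⟩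
  · intro h'
    have h4 := orderOf_dvd_of_pow_eq_one h'
    have h5 := Nat.le_of_dvd (Nat.div_pos (Nat.le_of_dvd hpos hrd) hr.pos) h4
    exact absurd h5 (not_le.2 (Nat.div_lt_self hpos hr.one_lt))
  · rw [hy, ← conj_pow, h3, inv_pow]

omit [Finite S] in
theorem fpr_invol (hsq : SqInner S) {G Ω : Type} [Group G] [Finite G] [Finite Ω] [MulAction G Ω] {N : Subgroup G}
    (hE : Env G Ω N) (e : N ≃* S) {z : G} (hz : z ^ 2 = 1) (hz1 : z ≠ 1) :
    ∃ (r : ℕ) (y : G), r.Prime ∧ r ≠ 2 ∧ y ∈ N ∧ y ^ r = 1 ∧ y ≠ 1 ∧ z * y * z⁻¹ = y⁻¹ ∧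
      fpr Ω z ≤ fpr Ω y + 1 / r := by
  obtain ⟨r, y, hr, hr2, hyN, hyr, hy1, hzy⟩ := exists_inverted hsq hE e hz hz1
  refine ⟨r, y, hr, hr2, hyN, hyr, hy1, hzy, F3 hr hyr (a := r - 1) ?_ ?_⟩
  · rw [hzy]
    have h1 : y ^ (r - 1) * y = 1 := by rw [← pow_succ, Nat.sub_add_cancel hr.one_lt.le, hyr]
    exact (eq_inv_of_mul_eq_one_left h1).symm
  · intro h
    have h1 : r ∣ 2 := by
      have h2 : r ∣ (r - 1) + 1 := by rw [Nat.sub_add_cancel hr.one_lt.le]
      have h3 := (Nat.modEq_zero_iff_dvd.2 h2)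
      have h4 : (r - 1) + 1 ≡ 1 + 1 [MOD r] := h.add_right 1
      exact Nat.modEq_zero_iff_dvd.1 (h4.symm.trans h3)
    exact hr2 ((Nat.prime_dvd_prime_iff_eq hr Nat.prime_two).1 h1)

omit [Finite S] in
/-- involutions, inner or outer -/
theorem FBA.two (hsq : SqInner S) {b : ℚ} (h : ∀ p : ℕ, p.Prime → p ≠ 2 → p ∣ Nat.card S → FBA S p b) :
    FBA S 2 (b + 1 / 3) := by
  intro G _ _ Ω _ _ _ N hE e z hz hz1
  obtain ⟨r, y, hr, hr2, hyN, hyr, hy1, -, hb⟩ := fpr_invol hsq hE e hz hz1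
  have hrd : r ∣ Nat.card S := by
    rw [← Nat.card_congr e.toEquiv]
    have h1 : orderOf (⟨y, hyN⟩ : N) = r := by
      have := Fact.mk hr
      exact orderOf_eq_prime (Subtype.ext hyr) fun h' => hy1 (congrArg Subtype.val h')
    rw [← h1]
    exact orderOf_dvd_natCard _
  refine hb.trans (add_le_add (h r hr hr2 hrd G Ω N hE e y hyr hy1) ?_)
  have h3 : 3 ≤ r := by
    have := hr.two_le
    omega
  have h3' : (3 : ℚ) ≤ r := by exact_mod_cast h3
  exact one_div_le_one_div_of_le (by norm_num) h3'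

omit [Finite S] in
/-- **no cover from fixed point ratios** -/
theorem noCov_of_FBA (hsq : SqInner S) (β : ℕ → ℚ)
    (hβ : ∀ p : ℕ, p.Prime → (p = 2 ∨ p ∣ Nat.card S) → FBA S p (β p))
    (hs : ∀ s : Finset ℕ, (∀ p ∈ s, p.Prime ∧ (p = 2 ∨ p ∣ Nat.card S)) → 2 ≤ s.card →
      (∃ g : S, orderOf g = ∏ p ∈ s.erase 2, p) → ∑ p ∈ s, β p < 1) : NoCov S := by
  classical
  intro G _ _ Ω _ _ _ N hE e ι _ x r hx hc _
  have : Fintype ι := Fintype.ofFinite ι
  have hrd : ∀ i, r i = 2 ∨ r i ∣ Nat.card S := by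
    intro i
    by_cases h2 : r i = 2
    · exact Or.inl h2
    refine Or.inr ?_
    have hxN := prime_mem hE e hsq (hx.prime i) h2 (hx.pow i)
    rw [← Nat.card_congr e.toEquiv]
    have h1 : orderOf (⟨x i, hxN⟩ : N) = r i := by
      have := Fact.mk (hx.prime i)
      exact orderOf_eq_prime (Subtype.ext (hx.pow i)) fun h' => hx.ne i (congrArg Subtype.val h')
    rw [← h1]
    exact orderOf_dvd_natCard _
  by_cases hι : 2 ≤ Fintype.card ι
  · refine dead_of_sum hc (fun i => β (r i)) (fun i => hβ _ (hx.prime i) (hrd i) G Ω N hE e _ (hx.pow i) (hx.ne i)) ?_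
    have h1 := hs (Finset.univ.image r) (by
      intro p hp
      obtain ⟨i, -, rfl⟩ := Finset.mem_image.1 hp
      exact ⟨hx.prime i, hrd i⟩) (by
      rw [Finset.card_image_of_injective _ hx.inj, Finset.card_univ]
      exact hι) ?_
    · rwa [Finset.sum_image fun a _ b _ h => hx.inj h] at h1
    · -- the product of the odd members
      let κ := {i : ι // r i ≠ 2}
      have hκ : PF (fun i : κ => x i.1) (fun i : κ => r i.1) :=
        ⟨fun i => hx.prime _, fun a b h => Subtype.ext (hx.inj h), fun i => hx.pow _, fun i => hx.ne _,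
          fun i j => hx.comm _ _⟩
      obtain ⟨g, hg, -⟩ := exists_prod hκ
      have hgo : Odd (orderOf g) := by
        rw [hg]
        exact Finset.prod_induction _ (fun n => Odd n) (fun a b ha hb => ha.mul hb) odd_one
          fun i _ => (hx.prime _).odd_of_ne_two i.2
      have hgN := odd_mem hE e hsq hgo
      refine ⟨e ⟨g, hgN⟩, ?_⟩
      rw [MulEquiv.orderOf_eq, Subgroup.orderOf_mk, hg]
      have h2 : (Finset.univ.image r).erase 2 = Finset.univ.image (fun i : κ => r i.1) := by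
        ext p
        simp only [Finset.mem_erase, Finset.mem_image, Finset.mem_univ, true_and]
        constructor
        · rintro ⟨hp2, i, rfl⟩
          exact ⟨⟨i, hp2⟩, rfl⟩
        · rintro ⟨i, rfl⟩
          exact ⟨i.2, i.1, rfl⟩
      rw [h2, Finset.prod_image fun a _ b _ h => Subtype.ext (hx.inj h)]
  · obtain ⟨ω₀⟩ := (inferInstance : Nonempty Ω)
    obtain ⟨i, hi⟩ := hc ω₀
    have hsub : ∀ j, j = i := by
      have : Fintype.card ι ≤ 1 := by omega
      exact fun j => Fintype.card_le_one_iff.1 this j i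
    apply hx.ne i
    have : Nonempty Ω := ⟨ω₀⟩
    refine hE.single fun ω => ?_
    obtain ⟨j, hj⟩ := hc ω
    rwa [hsub j] at hj

/-- **the counting criterion** -/
theorem noCov_of_count (hsq : SqInner S) {m K : ℕ} (hI : MinIx S m) (c : ℕ → ℕ)
    (hc : ∀ (p : ℕ) (x : S), p.Prime → p ≠ 2 → p ∣ Nat.card S → x ^ p = 1 → x ≠ 1 →
      Nat.card (centralizer ({x} : Set S)) ≤ c p)
    (hK : ∀ p ∈ (Nat.card S).primeFactors.erase 2, c p ≤ K)
    (hs : 3 * (∑ p ∈ (Nat.card S).primeFactors.erase 2, c p + K) < 2 * m) : NoCov S := by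
  classical
  have hm : 0 < m := by omega
  have hm' : (0 : ℚ) < m := by exact_mod_cast hm
  have hS0 : Nat.card S ≠ 0 := Nat.card_pos.ne'
  have hodd : ∀ p : ℕ, p.Prime → p ≠ 2 → p ∣ Nat.card S → FBA S p (c p / m) := fun p hp hp2 hd =>
    FBA.odd hsq hm hI hp hp2 fun x hx hx1 => hc p x hp hp2 hd hx hx1
  have htwo : FBA S 2 (K / m + 1 / 3) := FBA.two hsq fun p hp hp2 hd => (hodd p hp hp2 hd).mono
    (div_le_div_of_nonneg_right (by exact_mod_cast hK p (Finset.mem_erase.2 ⟨hp2, Nat.mem_primeFactors.2 ⟨hp, hd, hS0⟩⟩))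
      hm'.le)
  refine noCov_of_FBA hsq (fun p => if p = 2 then (K : ℚ) / m + 1 / 3 else c p / m) (fun p hp hd => ?_)
    fun s h1 _ _ => ?_
  · by_cases hp2 : p = 2
    · subst hp2
      simpa using htwo
    · simp only [hp2, if_false]
      exact hodd p hp hp2 (hd.resolve_left hp2)
  · have h2 : ∑ p ∈ s, (if p = 2 then (K : ℚ) / m + 1 / 3 else c p / m) ≤
        ∑ p ∈ insert 2 ((Nat.card S).primeFactors.erase 2), (if p = 2 then (K : ℚ) / m + 1 / 3 else c p / m) := by
      refine Finset.sum_le_sum_of_subset_of_nonneg (fun p hp => ?_) fun p _ _ => ?_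
      · by_cases hp2 : p = 2
        · rw [hp2]; exact Finset.mem_insert_self _ _
        · exact Finset.mem_insert_of_mem (Finset.mem_erase.2 ⟨hp2, Nat.mem_primeFactors.2
            ⟨(h1 p hp).1, (h1 p hp).2.resolve_left hp2, hS0⟩⟩)
      · split_ifs <;> positivity
    refine h2.trans_lt ?_
    rw [Finset.sum_insert (Finset.notMem_erase _ _)]
    have h3 : ∑ p ∈ (Nat.card S).primeFactors.erase 2, (if p = 2 then (K : ℚ) / m + 1 / 3 else c p / m) =
        (∑ p ∈ (Nat.card S).primeFactors.erase 2, (c p : ℚ)) / m := by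
      rw [Finset.sum_div]
      refine Finset.sum_congr rfl fun p hp => ?_
      rw [if_neg (Finset.mem_erase.1 hp).1]
    rw [h3]
    simp only [if_true]
    have h4 : 3 * ((∑ p ∈ (Nat.card S).primeFactors.erase 2, (c p : ℚ)) + K) < 2 * m := by exact_mod_cast hs
    have h5 : (K : ℚ) / m + 1 / 3 + (∑ p ∈ (Nat.card S).primeFactors.erase 2, (c p : ℚ)) / m =
        ((∑ p ∈ (Nat.card S).primeFactors.erase 2, (c p : ℚ)) + K) / m + 1 / 3 := by ring
    rw [h5]
    have h6 : ((∑ p ∈ (Nat.card S).primeFactors.erase 2, (c p : ℚ)) + K) / m < 2 / 3 := by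
      rw [div_lt_iff₀ hm']
      linarith
    linarith

end bounds

end Cfsg.Agent.H973.RG
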