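import Cfsg.Agent.H147.Fpr.Comb
import Cfsg.Agent.H973.RG.Tool

/-!
# Lower bounds for the indices of proper subgroups by the order engine (helper973)
-/

set_option autoImplicit false
open Cfsg

namespace Cfsg.Agent.H973.RG

open Subgroup Cfsg.Agent.H940 Cfsg.Agent.H940.Eng Cfsg.Agent.H345.RG

/-- the index `d` is excluded -/
def noIx (l : List (ℕ × ℕ)) (n : ℕ) (D : List (ℕ × ℕ × ℕ)) (bd : ℕ) (loc : List LD) (ords : List ℕ) (d : ℕ) : Bool :=
  !Nat.beq (n % d) 0 || !H444.Fpr.adm D d || bad l n [] bd loc ords (n / d)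

/-- **minimal index**: no index below `T` is possible, up to a list `ex` of exceptions -/
theorem minIx_of_check_ex {S : Type} [Group S] {l : List (ℕ × ℕ)} {n : ℕ} {ords : List ℕ} {loc : List LD}
    (c : Ctx S l n ords loc) (D : List (ℕ × ℕ × ℕ)) (hD : ∀ d ∈ D, H444.Fpr.Known S d.1 d.2.1 d.2.2) (bd T : ℕ)
    (ex : List ℕ) (hchk : ((List.range T).all fun d => ex.contains d || noIx l n D bd loc ords d) = true)
    (H : Subgroup S) (hH : H ≠ ⊤) : T ≤ H.index ∨ H.index ∈ ex := by
  have := c.fin
  have := c.simple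
  by_contra hcon
  rw [not_or, not_le] at hcon
  rw [List.all_eq_true] at hchk
  have h1 := hchk H.index (List.mem_range.2 hcon.1)
  rw [Bool.or_eq_true, List.contains_iff_mem] at h1
  have h1 := h1.resolve_left hcon.2
  have hmi : Nat.card H * H.index = n := by rw [Subgroup.card_mul_index, c.card]
  have hpos : 0 < H.index := Nat.pos_of_ne_zero Subgroup.index_ne_zero_of_finite
  have hin : n / H.index = Nat.card H := by
    rw [← hmi]
    exact Nat.mul_div_cancel _ hpos
  have hmod : n % H.index = 0 := by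
    rw [← hmi]
    exact Nat.mul_mod_left _ _
  unfold noIx at h1
  rw [H444.Fpr.adm_of_known hD hH, hmod, hin, not_bad c.val c.card c.ords c.loc (full := []) (bd := bd) (H := H)
    (by simp) hH] at h1
  simp at h1

theorem minIx_of_check {S : Type} [Group S] {l : List (ℕ × ℕ)} {n : ℕ} {ords : List ℕ} {loc : List LD}
    (c : Ctx S l n ords loc) (D : List (ℕ × ℕ × ℕ)) (hD : ∀ d ∈ D, H444.Fpr.Known S d.1 d.2.1 d.2.2) (bd T : ℕ)
    (hchk : ((List.range T).all (noIx l n D bd loc ords)) = true) : MinIx S T := by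
  intro H hH
  refine (minIx_of_check_ex c D hD bd T [] ?_ H hH).resolve_right (by simp)
  rw [List.all_eq_true] at hchk ⊢
  intro d hd
  rw [hchk d hd, Bool.or_true]

/-- transport -/
theorem MinIx.congr {S S' : Type} [Group S] [Group S'] (e : S ≃* S') {m : ℕ} (h : MinIx S m) : MinIx S' m := by
  intro H hH
  have h1 : H.comap (e : S →* S') ≠ ⊤ := by
    intro h
    apply hH
    rw [eq_top_iff]
    intro t _
    have : e.symm t ∈ H.comap (e : S →* S') := by rw [h]; trivial
    simpa using this
  have h2 := h _ h1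
  rwa [Subgroup.index_comap_of_surjective H e.surjective] at h2

end Cfsg.Agent.H973.RG
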