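import Cfsg.Agent.H973.RG.Ix
import Cfsg.Agent.H147.Fpr.ON
import Cfsg.Agent.KFacts.ON.Aut
import Cfsg.Agent.H680.ONThirtyOne

/-!
# Regular cycles (S3509): the O'Nan group, by counting (helper973)
-/

set_option autoImplicit false
set_option maxRecDepth 100000
open Cfsg

namespace Cfsg.Agent.H973.RG

open Subgroup Cfsg.Agent.H106.RC Cfsg.Agent.H345.RG

theorem sqInner_of_index {S : Type} [Group S] (h0 : (MulAut.conj : S →* MulAut S).range.index ≠ 0)
    (h : (MulAut.conj : S →* MulAut S).range.index ≤ 2) : SqInner S := by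
  intro α
  have h12 : (MulAut.conj : S →* MulAut S).range.index = 1 ∨ (MulAut.conj : S →* MulAut S).range.index = 2 := by omega
  have h3 : α * α ∈ (MulAut.conj : S →* MulAut S).range := by
    rcases h12 with h1 | h1
    · rw [Subgroup.index_eq_one.1 h1]
      trivial
    · exact Subgroup.mul_self_mem_of_index_two h1 α
  obtain ⟨s, hs⟩ := h3
  exact ⟨s, hs.symm⟩

/-- a prime dividing the order of a centraliser -/
theorem exists_comm_of_dvd {S : Type} [Group S] [Finite S] {x : S} {q : ℕ} (hq : q.Prime)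
    (h : q ∣ Nat.card (centralizer ({x} : Set S))) : ∃ y : S, orderOf y = q ∧ y * x = x * y := by
  have := Fact.mk hq
  obtain ⟨y, hy⟩ := exists_prime_orderOf_dvd_card' q h
  exact ⟨y, by rw [Subgroup.orderOf_coe, hy], mem_centralizer_singleton_iff.1 y.2⟩

theorem order_dvd_cent {S : Type} [Group S] [Finite S] {x y : S} (h : y * x = x * y) :
    orderOf x ∣ Nat.card (centralizer ({y} : Set S)) := by
  have h1 : x ∈ centralizer ({y} : Set S) := mem_centralizer_singleton_iff.2 h.symm
  rw [← Subgroup.orderOf_mk x h1]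
  exact orderOf_dvd_natCard _

theorem card_cent_conj {S : Type} [Group S] [Finite S] (g x : S) :
    Nat.card (centralizer ({x} : Set S)) = Nat.card (centralizer ({g * x * g⁻¹} : Set S)) := by
  refine Nat.card_congr (Equiv.subtypeEquiv (MulAut.conj g).toEquiv fun a => ?_)
  rw [mem_centralizer_singleton_iff, mem_centralizer_singleton_iff]
  change a * x = x * a ↔ (g * a * g⁻¹) * (g * x * g⁻¹) = (g * x * g⁻¹) * (g * a * g⁻¹)
  have e1 : (g * a * g⁻¹) * (g * x * g⁻¹) = g * (a * x) * g⁻¹ := by group
  have e2 : (g * x * g⁻¹) * (g * a * g⁻¹) = g * (x * a) * g⁻¹ := by group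
  rw [e1, e2]
  exact ⟨fun h => by rw [h], fun h => mul_left_cancel (mul_right_cancel h)⟩

namespace ONan

open Cfsg.Agent.H474.ONC

abbrev G : Type := Cfsg.Spor.ON

theorem fin : Finite G := Cfsg.Agent.H493.Sep.ONLoc.fin
theorem card : Nat.card G = 460815505920 := Cfsg.Agent.KFacts.ON.OneClass.card_ON

theorem coprime_part {x : G} (hx : orderOf x = 7) : Nat.card (centralizer ({x} : Set G)) ∣ 2 ^ 9 * 7 ^ 3 := by
  have := fin
  have key : ∀ (q c : ℕ), q.Prime → (∀ y : G, orderOf y = q → Nat.card (centralizer ({y} : Set G)) = c) → ¬ 7 ∣ c →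
      ¬ q ∣ Nat.card (centralizer ({x} : Set G)) := by
    intro q c hq hc h7 h
    obtain ⟨y, hy, hyx⟩ := exists_comm_of_dvd hq h
    have h1 := order_dvd_cent hyx
    rw [hc y hy, hx] at h1
    exact h7 h1
  have n3 := key 3 3240 (by norm_num) (fun y hy => H999.ONFiveCent.card_cent_three hy) (by norm_num)
  have n5 := key 5 180 (by norm_num) (fun y hy => card_cent_five hy) (by norm_num)
  have n11 := key 11 11 (by norm_num) (fun y hy => card_cent_eleven hy) (by norm_num)
  have n19 := key 19 19 (by norm_num) (fun y hy => H680.ONThirtyOne.card_cent_nineteen hy) (by norm_num)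
  have n31 := key 31 31 (by norm_num) (fun y hy => H680.ONThirtyOne.card_cent hy) (by norm_num)
  have hd : Nat.card (centralizer ({x} : Set G)) ∣ 460815505920 := by
    rw [← card]
    exact Subgroup.card_subgroup_dvd_card _
  have e : (460815505920 : ℕ) = 3 ^ 4 * (5 * (11 * (19 * (31 * (2 ^ 9 * 7 ^ 3))))) := by norm_num
  rw [e] at hd
  have c3 := (Nat.Prime.coprime_iff_not_dvd (by norm_num : Nat.Prime 3)).2 n3
  have c5 := (Nat.Prime.coprime_iff_not_dvd (by norm_num : Nat.Prime 5)).2 n5
  have c11 := (Nat.Prime.coprime_iff_not_dvd (by norm_num : Nat.Prime 11)).2 n11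
  have c19 := (Nat.Prime.coprime_iff_not_dvd (by norm_num : Nat.Prime 19)).2 n19
  have c31 := (Nat.Prime.coprime_iff_not_dvd (by norm_num : Nat.Prime 31)).2 n31
  exact c31.symm.dvd_of_dvd_mul_left (c19.symm.dvd_of_dvd_mul_left (c11.symm.dvd_of_dvd_mul_left
    (c5.symm.dvd_of_dvd_mul_left ((c3.pow_left 4).symm.dvd_of_dvd_mul_left hd))))

/-- elements of order 7 -/
theorem cent_seven {x : G} (hx : orderOf x = 7) : Nat.card (centralizer ({x} : Set G)) ≤ 1372 := by
  have := fin
  by_cases h2 : 2 ∣ Nat.card (centralizer ({x} : Set G))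
  · obtain ⟨t, ht, htx⟩ := exists_comm_of_dvd Nat.prime_two h2
    have htt : t * t = 1 := by rw [← pow_two, ← ht, pow_orderOf_eq_one]
    have ht1 : t ≠ 1 := by rintro rfl; simp at ht
    obtain ⟨g, hg⟩ := isConj_iff.1 (Cfsg.Agent.KFacts.ON.OneClass.one_class htt ht1)
    set x' := g * x * g⁻¹ with hx'
    have hc : x' * (g * t * g⁻¹) = g * t * g⁻¹ * x' := by
      rw [hx']
      calc g * x * g⁻¹ * (g * t * g⁻¹) = g * (x * t) * g⁻¹ := by group
        _ = g * (t * x) * g⁻¹ := by rw [htx]
        _ = g * t * g⁻¹ * (g * x * g⁻¹) := by group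
    rw [hg] at hc
    have ho : orderOf x' = 7 := by
      rw [← hx, hx']
      exact MulEquiv.orderOf_eq (MulAut.conj g) x
    have h7 : x' ^ 7 = 1 := by rw [← ho, pow_orderOf_eq_one]
    have hJ := mem_J_of_odd (Cfsg.Agent.KFacts.ON.OneClass.mem_K0.2 hc) (by decide : Odd 7) h7
    obtain ⟨M, -, -, hodd, hM, -⟩ := (loc_seven ho hJ).exists_compl
    have hd := coprime_part ho
    rw [card_cent_conj g x]
    change Nat.card (centralizer ({x'} : Set G)) ≤ 1372
    have h6 : Nat.card M ∣ 7 ^ 3 := by
      have h7 : Nat.card M ∣ 2 ^ 9 * 7 ^ 3 := by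
        refine dvd_trans ?_ hd
        rw [hM]
        exact dvd_mul_left _ _
      exact (Nat.Coprime.pow_right 9 (Nat.coprime_two_right.2 hodd)).dvd_of_dvd_mul_left h7
    have h7 := Nat.le_of_dvd (by norm_num) h6
    rw [hM]
    omega
  · have hd := coprime_part hx
    have h6 : Nat.card (centralizer ({x} : Set G)) ∣ 7 ^ 3 :=
      (((Nat.Prime.coprime_iff_not_dvd Nat.prime_two).2 h2).pow_left 9).symm.dvd_of_dvd_mul_left hd
    exact (Nat.le_of_dvd (by norm_num) h6).trans (by norm_num)

theorem sqInner : SqInner G := by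
  have := Cfsg.Agent.KFacts.ON.Aut.finite_aut
  exact sqInner_of_index Subgroup.index_ne_zero_of_finite Cfsg.Agent.KFacts.ON.Aut.index_le

theorem minIx (B : H940.Eng.Base) : MinIx G 13000 :=
  minIx_of_check (H147.Fpr.ONan.ctx B) _ H147.Fpr.ONan.D_ok 20 13000 (by decide +kernel)

theorem primeFactors : (Nat.card G).primeFactors.erase 2 = {3, 5, 7, 11, 19, 31} := by
  rw [card, show (460815505920 : ℕ) = 2 ^ 9 * (3 ^ 4 * (5 * (7 ^ 3 * (11 * (19 * 31))))) by norm_num]
  rw [Nat.primeFactors_mul (by norm_num) (by norm_num), Nat.primeFactors_mul (by norm_num) (by norm_num),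
    Nat.primeFactors_mul (by norm_num) (by norm_num), Nat.primeFactors_mul (by norm_num) (by norm_num),
    Nat.primeFactors_mul (by norm_num) (by norm_num), Nat.primeFactors_mul (by norm_num) (by norm_num),
    Nat.primeFactors_prime_pow (by norm_num) (by norm_num), Nat.primeFactors_prime_pow (by norm_num) (by norm_num),
    Nat.primeFactors_prime_pow (by norm_num) (by norm_num), Nat.Prime.primeFactors (by norm_num),
    Nat.Prime.primeFactors (by norm_num), Nat.Prime.primeFactors (by norm_num), Nat.Prime.primeFactors (by norm_num)]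
  decide

/-- bounds for the centralisers -/
def c : ℕ → ℕ := fun p => if p = 3 then 3240 else if p = 5 then 180 else if p = 7 then 1372 else p

theorem noCov (B : H940.Eng.Base) : NoCov G := by
  have := fin
  refine noCov_of_count sqInner (m := 13000) (K := 3240) (minIx B) c (fun p x hp hp2 hd hx hx1 => ?_) ?_ ?_
  · have ho : orderOf x = p := by
      have := Fact.mk hp
      exact orderOf_eq_prime hx hx1
    have hmem : p ∈ (Nat.card G).primeFactors.erase 2 :=
      Finset.mem_erase.2 ⟨hp2, Nat.mem_primeFactors.2 ⟨hp, hd, Nat.card_pos.ne'⟩⟩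
    rw [primeFactors] at hmem
    simp only [Finset.mem_insert, Finset.mem_singleton] at hmem
    rcases hmem with rfl | rfl | rfl | rfl | rfl | rfl
    · exact (H999.ONFiveCent.card_cent_three ho).le
    · exact (card_cent_five ho).le
    · exact cent_seven ho
    · exact (card_cent_eleven ho).le
    · exact (H680.ONThirtyOne.card_cent_nineteen ho).le
    · exact (H680.ONThirtyOne.card_cent ho).le
  · rw [primeFactors]
    decide
  · rw [primeFactors]
    decide

end ONan

/-- **the row of the O'Nan group** -/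
theorem rc_ON (B : H940.Eng.Base) {T : Type} [Group T] [Finite T] (h : Spor.IsoON T) : RC T := by
  have := ONan.fin
  obtain ⟨e⟩ := h
  refine RC.congr e.symm (rc_of_noCov Cfsg.Agent.KFacts.ON.OneClass.hs (fun hc => ?_) (ONan.noCov B))
  have h1 := H999.ONFiveCent.card_cent_three (x := (H147.Fpr.ONan.exists_order (r := 3) (by norm_num)
    (by decide +kernel)).choose) (H147.Fpr.ONan.exists_order (r := 3) (by norm_num) (by decide +kernel)).choose_spec
  have h2 : centralizer ({(H147.Fpr.ONan.exists_order (r := 3) (by norm_num) (by decide +kernel)).choose} : Set ONan.G)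
      = ⊤ := by
    rw [eq_top_iff]
    intro y _
    rw [mem_centralizer_singleton_iff]
    exact hc.is_comm.comm _ _
  rw [h2, Subgroup.card_top, ONan.card] at h1
  norm_num at h1

end Cfsg.Agent.H973.RG
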